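import Groth.Agent.HTor16.Consequences
import Mathlib.Algebra.Category.ModuleCat.Monoidal.Symmetric
import Mathlib.LinearAlgebra.TensorProduct.RightExactness

/-! `Tor` computed by a resolution of the first variable. -/

set_option autoImplicit false
set_option backward.isDefEq.respectTransparency false
universe u

open CategoryTheory CategoryTheory.Limits MonoidalCategory TensorProduct

namespace Groth.Agent.TorB16

open Groth.Agent.HTor16 (freeSES freeSES_shortExact freeSES_projective descend descend_apply)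

variable {A : Type u} [CommRing A] {M : ModuleCat.{u} A} (P : ProjectiveResolution M)

/-- `P ⊗ X`. -/
noncomputable abbrev tC (X : ModuleCat.{u} A) : ChainComplex (ModuleCat.{u} A) ℕ :=
  ((tensorRight X).mapHomologicalComplex (ComplexShape.down ℕ)).obj P.complex

/-- `P ⊗ f`. -/
noncomputable def tMap {X Y : ModuleCat.{u} A} (f : X ⟶ Y) : tC P X ⟶ tC P Y where
  f i := ModuleCat.ofHom (f.hom.lTensor (P.complex.X i))
  comm' i j _ := ModuleCat.hom_ext (TensorProduct.ext' fun _ _ => rfl)

lemma tC_d (X : ModuleCat.{u} A) (i j : ℕ) :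
    ((tC P X).d i j).hom = (P.complex.d i j).hom.rTensor X := rfl

lemma tMap_comp_zero {S : ShortComplex (ModuleCat.{u} A)} : tMap P S.f ≫ tMap P S.g = 0 := by
  ext i : 1
  refine ModuleCat.hom_ext (TensorProduct.ext' fun x y => ?_)
  change x ⊗ₜ[A] S.g.hom (S.f.hom y) = 0
  rw [show S.g.hom (S.f.hom y) = 0 from ConcreteCategory.congr_hom S.zero y, tmul_zero]

/-- `P ⊗ S`. -/
noncomputable def tSC (S : ShortComplex (ModuleCat.{u} A)) : ShortComplex (ChainComplex (ModuleCat.{u} A) ℕ) :=
  ShortComplex.mk (tMap P S.f) (tMap P S.g) (tMap_comp_zero P)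

lemma flat_of_projective (X : ModuleCat.{u} A) [Projective X] : Module.Flat A X := by
  haveI : Module.Projective A X := (IsProjective.iff_projective (R := A) X).2 ‹_›
  infer_instance

lemma tSC_shortExact {S : ShortComplex (ModuleCat.{u} A)} (hS : S.ShortExact) : (tSC P S).ShortExact := by
  refine HomologicalComplex.shortExact_of_degreewise_shortExact _ fun i => ?_
  haveI := flat_of_projective (P.complex.X i)
  refine { exact := ?_, mono_f := ?_, epi_g := ?_ }
  · rw [ShortComplex.moduleCat_exact_iff]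
    intro x hx
    exact (Module.Flat.lTensor_exact (P.complex.X i)
      (LinearMap.exact_iff.2 hS.exact.moduleCat_range_eq_ker.symm) _).1 hx
  · exact (ModuleCat.mono_iff_injective _).2
      (Module.Flat.lTensor_preserves_injective_linearMap (M := P.complex.X i) _ hS.moduleCat_injective_f)
  · exact (ModuleCat.epi_iff_surjective _).2 (LinearMap.lTensor_surjective _ hS.moduleCat_surjective_g)

lemma exact_succ' (p : ℕ) :
    Function.Exact (P.complex.d (p + 2) (p + 1)).hom (P.complex.d (p + 1) p).hom :=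
  LinearMap.exact_iff.2 (P.exact_succ p).moduleCat_range_eq_ker.symm

lemma isZero_of_flat (X : ModuleCat.{u} A) [Module.Flat A X] (p : ℕ) :
    IsZero ((tC P X).homology (p + 1)) := by
  rw [← HomologicalComplex.exactAt_iff_isZero_homology,
    HomologicalComplex.exactAt_iff' _ (p + 2) (p + 1) p (by simp) (by simp),
    ShortComplex.moduleCat_exact_iff_range_eq_ker]
  exact (LinearMap.exact_iff.1 (Module.Flat.rTensor_exact X (exact_succ' P p))).symm

/-- The projection to `H₀`. -/
noncomputable def pi0 (X : ModuleCat.{u} A) : (tC P X).X 0 ⟶ (tC P X).homology 0 :=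
  (tC P X).pOpcycles 0 ≫ (ChainComplex.isoHomologyι₀ (tC P X)).inv

lemma pi0_natural {X Y : ModuleCat.{u} A} (f : X ⟶ Y) (x : (tC P X).X 0) :
    HomologicalComplex.homologyMap (tMap P f) 0 (pi0 P X x) = pi0 P Y ((tMap P f).f 0 x) := by
  refine ConcreteCategory.congr_hom (?_ : pi0 P X ≫ HomologicalComplex.homologyMap (tMap P f) 0 =
    (tMap P f).f 0 ≫ pi0 P Y) x
  simp [pi0]

lemma pi0_surjective (X : ModuleCat.{u} A) : Function.Surjective (pi0 P X) := by
  haveI : Epi (pi0 P X) := epi_comp _ _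
  exact (ModuleCat.epi_iff_surjective _).1 inferInstance

lemma pi0_eq_zero_iff (X : ModuleCat.{u} A) (x : (tC P X).X 0) :
    pi0 P X x = 0 ↔ ∃ y, (tC P X).d 1 0 y = x := by
  have hex := ShortComplex.exact_of_g_is_cokernel
    (ShortComplex.mk ((tC P X).d 1 0) ((tC P X).pOpcycles 0) ((tC P X).d_pOpcycles 1 0))
    ((tC P X).opcyclesIsCokernel 1 0 (by simp))
  rw [ShortComplex.moduleCat_exact_iff] at hex
  constructor
  · intro h
    exact hex x ((ModuleCat.mono_iff_injective (ChainComplex.isoHomologyι₀ (tC P X)).inv).1 inferInstance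
      (h.trans (map_zero _).symm))
  · rintro ⟨y, rfl⟩
    change (ChainComplex.isoHomologyι₀ (tC P X)).inv ((tC P X).pOpcycles 0 ((tC P X).d 1 0 y)) = 0
    rw [show (tC P X).pOpcycles 0 ((tC P X).d 1 0 y) = 0 from
      ConcreteCategory.congr_hom ((tC P X).d_pOpcycles 1 0) y, map_zero]

lemma π_exact : Function.Exact (P.complex.d 1 0).hom (P.π.f 0).hom :=
  LinearMap.exact_iff.2 P.exact₀.moduleCat_range_eq_ker.symm

lemma π_surjective : Function.Surjective (P.π.f 0).hom := (ModuleCat.epi_iff_surjective _).1 inferInstance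

/-- `H₀(P ⊗ X) → M ⊗ X`. -/
noncomputable def h0 (X : ModuleCat.{u} A) :
    ((tC P X).homology 0 : Type u) →ₗ[A] TensorProduct A M X :=
  descend (pi0 P X).hom (pi0_surjective P X) ((P.π.f 0).hom.rTensor X) fun x hx => by
    obtain ⟨y, rfl⟩ := (pi0_eq_zero_iff P X x).1 hx
    exact ((rTensor_exact (X : Type u) (π_exact P) (π_surjective P)) _).2 ⟨y, rfl⟩

lemma h0_pi0 (X : ModuleCat.{u} A) (x : (tC P X).X 0) :
    h0 P X (pi0 P X x) = (P.π.f 0).hom.rTensor X x := descend_apply _ _ _ _ x

lemma h0_bijective (X : ModuleCat.{u} A) : Function.Bijective (h0 P X) := by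
  refine ⟨(injective_iff_map_eq_zero _).2 fun c hc => ?_, fun y => ?_⟩
  · obtain ⟨x, rfl⟩ := pi0_surjective P X c
    rw [h0_pi0] at hc
    exact (pi0_eq_zero_iff P X x).2 ((rTensor_exact (X : Type u) (π_exact P) (π_surjective P) x).1 hc)
  · obtain ⟨x, hx⟩ := LinearMap.rTensor_surjective (X : Type u) (π_surjective P) y
    exact ⟨pi0 P X x, (h0_pi0 P X x).trans hx⟩

lemma h0_natural {X Y : ModuleCat.{u} A} (f : X ⟶ Y) (c : (tC P X).homology 0) :
    h0 P Y (HomologicalComplex.homologyMap (tMap P f) 0 c) = f.hom.lTensor M (h0 P X c) := by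
  obtain ⟨x, rfl⟩ := pi0_surjective P X c
  rw [pi0_natural, h0_pi0, h0_pi0]
  refine LinearMap.congr_fun (?_ : (P.π.f 0).hom.rTensor Y ∘ₗ f.hom.lTensor (P.complex.X 0) =
    f.hom.lTensor M ∘ₗ (P.π.f 0).hom.rTensor X) x
  exact TensorProduct.ext' fun _ _ => rfl

/-- `Hₙ(P ⊗ N) ≃ Torₙ(M, N)`. -/
lemma balance : ∀ (n : ℕ) (N : ModuleCat.{u} A), Nonempty (DRing.Tor A n M N ≃ₗ[A] (tC P N).homology n)
  | 0, N => by
    obtain ⟨e⟩ := Groth.Agent.HTor16.torZero M N
    exact ⟨e.trans (LinearEquiv.ofBijective (h0 P N) (h0_bijective P N)).symm⟩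
  | n + 1, N => by
    have hS := freeSES_shortExact N
    haveI := freeSES_projective N
    haveI := flat_of_projective (freeSES N).X₂
    have hT := tSC_shortExact P hS
    let δ := hT.δ (n + 1) n rfl
    haveI : Mono δ :=
      (hT.homology_exact₃ (n + 1) n rfl).mono_g ((isZero_of_flat P (freeSES N).X₂ n).eq_of_src _ _)
    cases n with
    | zero =>
      obtain ⟨e⟩ := Groth.Agent.HTor16.torOne M hS
      let ψ : ((tC P N).homology 1 : Type u) →ₗ[A] TensorProduct A M (freeSES N).X₁ := h0 P _ ∘ₗ δ.hom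
      have hψ : ∀ x, (freeSES N).f.hom.lTensor M (ψ x) = 0 := fun x => by
        refine (h0_natural P (freeSES N).f (δ x)).symm.trans ?_
        refine (congrArg (h0 P _) ?_).trans (map_zero _)
        exact ConcreteCategory.congr_hom (hT.δ_comp 1 0 rfl) x
      refine ⟨e.trans (LinearEquiv.ofBijective (ψ.codRestrict _ hψ) ⟨fun x y h => ?_, fun y => ?_⟩).symm⟩
      · exact (ModuleCat.mono_iff_injective δ).1 inferInstance ((h0_bijective P _).1 (congrArg Subtype.val h))
      · obtain ⟨c, hc⟩ := (h0_bijective P (freeSES N).X₁).2 y.1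
        have hc0 : HomologicalComplex.homologyMap (tMap P (freeSES N).f) 0 c = 0 := by
          apply (h0_bijective P _).1
          rw [h0_natural, hc, map_zero]
          exact y.2
        obtain ⟨x, hx⟩ := (ShortComplex.moduleCat_exact_iff _).1 (hT.homology_exact₁ 1 0 rfl) c hc0
        exact ⟨x, Subtype.ext ((congrArg (h0 P _) hx).trans hc)⟩
    | succ q =>
      obtain ⟨e⟩ := Groth.Agent.HTor16.torShift M hS q
      obtain ⟨e'⟩ := balance (q + 1) (freeSES N).X₁
      haveI : Epi δ :=
        (hT.homology_exact₁ (q + 1 + 1) (q + 1) rfl).epi_f ((isZero_of_flat P (freeSES N).X₂ q).eq_of_tgt _ _)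
      haveI : IsIso δ := isIso_of_mono_of_epi δ
      exact ⟨(e.trans e').trans (asIso δ).toLinearEquiv.symm⟩

end Groth.Agent.TorB16
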