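import Groth.Agent.TorB16.Balance
import Mathlib.RingTheory.TensorProduct.Basic
import Mathlib.LinearAlgebra.TensorProduct.Tower

/-! Change of rings for `Tor`. -/

set_option autoImplicit false
set_option backward.isDefEq.respectTransparency false
set_option backward.defeqAttrib.useBackward true
universe u

open CategoryTheory CategoryTheory.Limits MonoidalCategory TensorProduct

namespace Groth.Agent.TorB16

variable {A A' : Type u} [CommRing A] [CommRing A'] [Algebra A A']

/-- A projective resolution from exactness data. -/
noncomputable def resolutionMk (C : ChainComplex (ModuleCat.{u} A) ℕ) (hC : ∀ n, Projective (C.X n))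
    {X : ModuleCat.{u} A} (q : C.X 0 ⟶ X) (hd : C.d 1 0 ≫ q = 0) (hq : Function.Surjective q)
    (h0 : Function.Exact (C.d 1 0) q) (h : ∀ n, Function.Exact (C.d (n + 2) (n + 1)) (C.d (n + 1) n)) :
    ProjectiveResolution X where
  complex := C
  projective := hC
  π := (ChainComplex.toSingle₀Equiv C X).symm ⟨q, hd⟩
  quasiIso := ⟨fun n => by
    cases n with
    | zero =>
      rw [ChainComplex.quasiIsoAt₀_iff, ShortComplex.quasiIso_iff_of_zeros']
      · refine (ShortComplex.exact_and_epi_g_iff_of_iso (S₂ := ShortComplex.mk (C.d 1 0) q hd) ?_).2 ⟨?_, ?_⟩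
        · exact ShortComplex.isoMk (Iso.refl _) (Iso.refl _) (Iso.refl _) (by simp) (by simp)
        · exact (ShortComplex.ShortExact.moduleCat_exact_iff_function_exact _).2 h0
        · exact (ModuleCat.epi_iff_surjective _).2 hq
      all_goals first | rfl | exact C.shape 0 0 (by simp)
    | succ n =>
      rw [quasiIsoAt_iff_exactAt']
      · rw [HomologicalComplex.exactAt_iff' _ (n + 2) (n + 1) n (by simp) (by simp)]
        exact (ShortComplex.ShortExact.moduleCat_exact_iff_function_exact _).2 (h n)
      · exact ChainComplex.exactAt_succ_single_obj _ _⟩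

/-- `A' ⊗ G`. -/
noncomputable def bcComplex (G : ChainComplex (ModuleCat.{u} A) ℕ) : ChainComplex (ModuleCat.{u} A') ℕ :=
  ChainComplex.of (fun n => ModuleCat.of A' (TensorProduct A A' (G.X n)))
    (fun n => ModuleCat.ofHom ((G.d (n + 1) n).hom.baseChange A')) fun n => by
    refine ModuleCat.hom_ext (LinearMap.ext fun x => ?_)
    change (G.d (n + 1) n).hom.baseChange A' ((G.d (n + 1 + 1) (n + 1)).hom.baseChange A' x) = 0
    rw [← LinearMap.comp_apply, ← LinearMap.baseChange_comp, ← ModuleCat.hom_comp, G.d_comp_d]
    simp

lemma bcComplex_d (G : ChainComplex (ModuleCat.{u} A) ℕ) (n : ℕ) :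
    (bcComplex (A' := A') G).d (n + 1) n = ModuleCat.ofHom ((G.d (n + 1) n).hom.baseChange A') :=
  ChainComplex.of_d (fun n => ModuleCat.of A' (TensorProduct A A' (G.X n)))
    (fun n => ModuleCat.ofHom ((G.d (n + 1) n).hom.baseChange A')) n

lemma lTensor_exact_of_rTensor_exact {X Y W T : Type u} [AddCommGroup X] [Module A X] [AddCommGroup Y]
    [Module A Y] [AddCommGroup W] [Module A W] [AddCommGroup T] [Module A T] (f : X →ₗ[A] Y) (g : Y →ₗ[A] W)
    (h : Function.Exact (f.rTensor T) (g.rTensor T)) : Function.Exact (f.lTensor T) (g.lTensor T) := by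
  refine Function.Exact.of_ladder_linearEquiv_of_exact (e₁ := TensorProduct.comm A X T)
    (e₂ := TensorProduct.comm A Y T) (e₃ := TensorProduct.comm A W T) ?_ ?_ h
  all_goals exact TensorProduct.ext' fun _ _ => rfl

/-- The base change of a resolution, when it stays exact. -/
noncomputable def bcResolution {M : ModuleCat.{u} A} (G : ProjectiveResolution M)
    (h : ∀ n, Function.Exact ((G.complex.d (n + 2) (n + 1)).hom.lTensor A') ((G.complex.d (n + 1) n).hom.lTensor A')) :
    ProjectiveResolution (ModuleCat.of A' (TensorProduct A A' M)) :=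
  resolutionMk (bcComplex G.complex)
    (fun n => by
      haveI : Module.Projective A (G.complex.X n) := (IsProjective.iff_projective (R := A) _).2 (G.projective n)
      exact (IsProjective.iff_projective (R := A') (TensorProduct A A' (G.complex.X n))).1 inferInstance)
    (ModuleCat.ofHom ((G.π.f 0).hom.baseChange A'))
    (by
      refine ModuleCat.hom_ext (LinearMap.ext fun x => ?_)
      rw [bcComplex_d]
      change (G.π.f 0).hom.baseChange A' ((G.complex.d 1 0).hom.baseChange A' x) = 0
      rw [← LinearMap.comp_apply, ← LinearMap.baseChange_comp, ← ModuleCat.hom_comp,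
        G.complex_d_comp_π_f_zero]
      simp)
    (LinearMap.lTensor_surjective A' (π_surjective G))
    (by rw [bcComplex_d]; exact lTensor_exact A' (π_exact G) (π_surjective G))
    fun n => by rw [bcComplex_d, bcComplex_d]; exact h n

lemma semilinear_homology_aux {K : ChainComplex (ModuleCat.{u} A) ℕ} {K' : ChainComplex (ModuleCat.{u} A') ℕ}
    (e : ∀ n, K.X n →ₛₗ[algebraMap A A'] K'.X n) (he : ∀ n, Function.Bijective (e n))
    (hd : ∀ i j x, e j (K.d i j x) = K'.d i j (e i x)) (n : ℕ) :
    ∃ φ : K.homology n →ₛₗ[algebraMap A A'] K'.homology n, Function.Bijective φ := by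
  let S := K.sc n
  let S' := K'.sc n
  let c : LinearMap.ker S.g.hom →ₛₗ[algebraMap A A'] LinearMap.ker S'.g.hom :=
    (e n).restrict fun x hx => by
      change K'.d n _ (e n x) = 0
      rw [← hd, show K.d n _ x = 0 from hx, map_zero]
  have hc : LinearMap.range S.moduleCatToCycles ≤ (LinearMap.range S'.moduleCatToCycles).comap c := by
    rintro _ ⟨y, rfl⟩
    exact ⟨e _ y, Subtype.ext (hd _ _ y).symm⟩
  let q := Submodule.mapQ (LinearMap.range S.moduleCatToCycles) (LinearMap.range S'.moduleCatToCycles) c hc
  have hq : Function.Bijective q := by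
    constructor
    · rw [injective_iff_map_eq_zero]
      intro x hx
      obtain ⟨x, rfl⟩ := Submodule.mkQ_surjective _ x
      obtain ⟨y', hy'⟩ := (Submodule.Quotient.mk_eq_zero _).1 hx
      obtain ⟨y, rfl⟩ := (he _).2 y'
      refine (Submodule.Quotient.mk_eq_zero _).2 ⟨y, Subtype.ext ((he n).1 ?_)⟩
      exact (hd _ _ y).trans (congrArg Subtype.val hy')
    · intro y
      obtain ⟨y, rfl⟩ := Submodule.mkQ_surjective _ y
      obtain ⟨x, hx⟩ := (he n).2 y.1
      refine ⟨Submodule.mkQ _ ⟨x, (he _).1 ?_⟩, congrArg (Submodule.mkQ _) (Subtype.ext hx)⟩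
      exact (hd _ _ x).trans ((congrArg _ hx).trans (y.2.trans (map_zero _).symm))
  exact ⟨(S'.moduleCatHomologyIso.toLinearEquiv.symm.toLinearMap.comp q).comp S.moduleCatHomologyIso.toLinearEquiv.toLinearMap,
    (S'.moduleCatHomologyIso.toLinearEquiv.symm.bijective.comp hq).comp S.moduleCatHomologyIso.toLinearEquiv.bijective⟩

lemma flat_baseChange {P' Q : Type u} [AddCommGroup P'] [Module A' P'] [Module A P'] [IsScalarTower A A' P']
    [AddCommGroup Q] [Module A Q] [Module.Flat A A'] (n : ℕ) :
    ∃ φ : DRing.Tor A n P' Q →ₛₗ[algebraMap A A'] DRing.Tor A' n P' (TensorProduct A A' Q),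
      Function.Bijective φ := by
  let G := projectiveResolution (ModuleCat.of A Q)
  let R := bcResolution (A' := A') G fun k => Module.Flat.lTensor_exact A' (exact_succ' G k)
  let F := Groth.Agent.HTor16.tens (ModuleCat.of A P')
  let F' := Groth.Agent.HTor16.tens (ModuleCat.of A' P')
  let c : ∀ k, TensorProduct A' P' (TensorProduct A A' (G.complex.X k)) ≃ₗ[A'] TensorProduct A P' (G.complex.X k) :=
    fun k => TensorProduct.AlgebraTensorModule.cancelBaseChange A A' A' P' (G.complex.X k)
  obtain ⟨φ, hφ⟩ := semilinear_homology_aux (K := (F.mapHomologicalComplex _).obj G.complex)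
    (K' := (F'.mapHomologicalComplex _).obj R.complex)
    (fun k =>
      { toFun := fun x => (c k).symm x
        map_add' := fun x y => map_add (c k).symm x y
        map_smul' := fun a x => by
          change (c k).symm (a • _) = algebraMap A A' a • (c k).symm _
          rw [← IsScalarTower.algebraMap_smul A' a, map_smul] })
    (fun k => (c k).symm.bijective) (fun i j x => by
      by_cases h : j + 1 = i
      · subst h
        change (c j).symm ((G.complex.d (j + 1) j).hom.lTensor P' x) =
          ((bcComplex G.complex).d (j + 1) j).hom.lTensor P' ((c (j + 1)).symm x)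
        rw [bcComplex_d]
        induction x using TensorProduct.induction_on with
        | zero => simp
        | add a b ha hb => simp only [map_add, ha, hb]
        | tmul p g => simp [c]; rfl
      · change (c j).symm ((((F.mapHomologicalComplex _).obj G.complex).d i j) x) = _
        rw [((F.mapHomologicalComplex _).obj G.complex).shape _ _ h,
          ((F'.mapHomologicalComplex _).obj R.complex).shape _ _ h]
        exact map_zero (c j).symm) n
  exact ⟨((R.isoLeftDerivedObj F' n).toLinearEquiv.symm.toLinearMap.comp φ).comp
      (G.isoLeftDerivedObj F n).toLinearEquiv.toLinearMap,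
    ((R.isoLeftDerivedObj F' n).toLinearEquiv.symm.bijective.comp hφ).comp
      (G.isoLeftDerivedObj F n).toLinearEquiv.bijective⟩

lemma baseChange_of_vanishing {P Q' : Type u} [AddCommGroup P] [Module A P] [AddCommGroup Q'] [Module A' Q']
    [Module A Q'] [IsScalarTower A A' Q']
    (hP : ∀ q : ℕ, 0 < q → Subsingleton (DRing.Tor A q P A')) (n : ℕ) :
    ∃ φ : DRing.Tor A n P Q' →ₛₗ[algebraMap A A'] DRing.Tor A' n (TensorProduct A A' P) Q',
      Function.Bijective φ := by
  let G := projectiveResolution (ModuleCat.of A P)
  have hex : ∀ k, Function.Exact ((G.complex.d (k + 2) (k + 1)).hom.rTensor A')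
      ((G.complex.d (k + 1) k).hom.rTensor A') := fun k => by
    obtain ⟨e⟩ := balance G (k + 1) (ModuleCat.of A A')
    have := hP (k + 1) (Nat.succ_pos k)
    have hz : IsZero ((tC G (ModuleCat.of A A')).homology (k + 1)) :=
      ModuleCat.isZero_iff_subsingleton.2 e.symm.toEquiv.subsingleton
    rw [← HomologicalComplex.exactAt_iff_isZero_homology,
      HomologicalComplex.exactAt_iff' _ (k + 2) (k + 1) k (by simp) (by simp)] at hz
    exact (ShortComplex.ShortExact.moduleCat_exact_iff_function_exact _).1 hz
  let R := bcResolution (A' := A') G fun k => lTensor_exact_of_rTensor_exact _ _ (hex k)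
  obtain ⟨e⟩ := balance G n (ModuleCat.of A Q')
  obtain ⟨e'⟩ := balance R n (ModuleCat.of A' Q')
  let c : ∀ k, TensorProduct A (G.complex.X k) Q' → TensorProduct A' (TensorProduct A A' (G.complex.X k)) Q' :=
    fun k x => TensorProduct.comm A' Q' _
      ((TensorProduct.AlgebraTensorModule.cancelBaseChange A A' A' Q' (G.complex.X k)).symm
        (TensorProduct.comm A _ Q' x))
  obtain ⟨φ, hφ⟩ := semilinear_homology_aux (K := tC G (ModuleCat.of A Q')) (K' := tC R (ModuleCat.of A' Q'))
    (fun k =>
      { toFun := fun x => c k x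
        map_add' := fun x y => by
          change c k (_ + _) = c k _ + c k _
          simp [c]
        map_smul' := fun a x => by
          change c k (a • _) = algebraMap A A' a • c k _
          simp only [c]
          rw [map_smul, ← IsScalarTower.algebraMap_smul A' a, map_smul, map_smul] })
    (fun k => ((TensorProduct.comm A' Q' _).bijective.comp
      (TensorProduct.AlgebraTensorModule.cancelBaseChange A A' A' Q' (G.complex.X k)).symm.bijective).comp
      (TensorProduct.comm A _ Q').bijective) (fun i j x => by
      by_cases h : j + 1 = i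
      · subst h
        change c j ((G.complex.d (j + 1) j).hom.rTensor Q' x) =
          ((bcComplex G.complex).d (j + 1) j).hom.rTensor Q' (c (j + 1) x)
        rw [bcComplex_d]
        induction x using TensorProduct.induction_on with
        | zero => simp [c]
        | add a b ha hb => simp only [c, map_add] at ha hb ⊢; rw [ha, hb]
        | tmul g q => simp [c]; rfl
      · change c j ((tC G (ModuleCat.of A Q')).d i j x) = _
        rw [(tC G (ModuleCat.of A Q')).shape _ _ h, (tC R (ModuleCat.of A' Q')).shape _ _ h]
        change c j 0 = 0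
        simp [c]) n
  exact ⟨(e'.symm.toLinearMap.comp φ).comp e.toLinearMap,
    (e'.symm.bijective.comp hφ).comp e.bijective⟩

end Groth.Agent.TorB16
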