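import Groth.Agent.HTor16.Consequences
import Mathlib.Algebra.Category.ModuleCat.FilteredColimits
import Mathlib.Algebra.Category.ModuleCat.Monoidal.Symmetric
import Mathlib.CategoryTheory.Limits.Types.Filtered
import Mathlib.Algebra.Homology.HomologySequenceLemmas

/-! `Tor` of modules preserves filtered colimits. -/

set_option autoImplicit false
set_option backward.isDefEq.respectTransparency false
universe u v w

open CategoryTheory CategoryTheory.Limits MonoidalCategory

namespace Groth.Agent.TorB16

variable {A : Type u} [CommRing A] {J : Type u} [SmallCategory J] [IsFiltered J]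

lemma isColimit_jointly {G : J ⥤ ModuleCat.{u} A} {t : Cocone G} (ht : IsColimit t) :
    (∀ x : t.pt, ∃ (i : J) (y : G.obj i), t.ι.app i y = x) ∧
      ∀ (i : J) (y : G.obj i), t.ι.app i y = 0 → ∃ (k : J) (f : i ⟶ k), G.map f y = 0 := by
  have h := isColimitOfPreserves (CategoryTheory.forget (ModuleCat.{u} A)) ht
  refine ⟨fun x => Types.jointly_surjective_of_isColimit h x, fun i y hy => ?_⟩
  obtain ⟨k, f, g, hfg⟩ := (Types.FilteredColimit.isColimit_eq_iff _ h (xi := y) (xj := (0 : G.obj i))).1
    (show t.ι.app i y = t.ι.app i 0 from hy.trans (map_zero _).symm)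
  refine ⟨k, f, ?_⟩
  exact hfg.trans (map_zero (G.map g).hom)

noncomputable def isColimitOfElements {G : J ⥤ ModuleCat.{u} A} (t : Cocone G)
    (hs : ∀ x : t.pt, ∃ (i : J) (y : G.obj i), t.ι.app i y = x)
    (hk : ∀ (i : J) (y : G.obj i), t.ι.app i y = 0 → ∃ (k : J) (f : i ⟶ k), G.map f y = 0) : IsColimit t := by
  refine isColimitOfReflects (CategoryTheory.forget (ModuleCat.{u} A))
    (Types.FilteredColimit.isColimitOf' _ _ (fun x => ?_) fun i x y h => ?_)
  · obtain ⟨i, y, hy⟩ := hs x
    exact ⟨i, y, hy.symm⟩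
  · obtain ⟨k, f, hf⟩ := hk i (x - y : G.obj i) ((map_sub _ _ _).trans (sub_eq_zero.2 h))
    refine ⟨k, f, ?_⟩
    exact sub_eq_zero.1 ((map_sub (G.map f).hom x y).symm.trans hf)

variable {C : Type v} [Category.{w} C] {T K F : C ⥤ ModuleCat.{u} A}

lemma preserves_of_kernel (α : T ⟶ K) (β : K ⟶ F) (hα : ∀ X, Function.Injective (α.app X))
    (hex : ∀ X, Function.Exact (α.app X) (β.app X)) [PreservesColimitsOfShape J K] [PreservesColimitsOfShape J F] :
    PreservesColimitsOfShape J T where
  preservesColimit {G} := ⟨fun {t} ht => by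
    obtain ⟨sK, kK⟩ := isColimit_jointly (isColimitOfPreserves K ht)
    obtain ⟨-, kF⟩ := isColimit_jointly (isColimitOfPreserves F ht)
    refine ⟨isColimitOfElements _ (fun x => ?_) fun i y hy => ?_⟩
    · obtain ⟨i, y, hy⟩ := sK (α.app t.pt x)
      obtain ⟨k, f, hf⟩ := kF i (β.app _ y) ((NatTrans.naturality_apply β (t.ι.app i) y).symm.trans
        ((congrArg (β.app t.pt) hy).trans ((hex _).apply_apply_eq_zero x)))
      obtain ⟨x', hx'⟩ := (hex (G.obj k) (K.map (G.map f) y)).1
        ((NatTrans.naturality_apply β (G.map f) y).trans hf)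
      refine ⟨k, x', hα _ ?_⟩
      refine (NatTrans.naturality_apply α (t.ι.app k) x').trans ((congrArg (K.map (t.ι.app k)) hx').trans ?_)
      rw [← ConcreteCategory.comp_apply, ← K.map_comp, t.w f]
      exact hy
    · obtain ⟨k, f, hf⟩ := kK i (α.app _ y)
        ((NatTrans.naturality_apply α (t.ι.app i) y).symm.trans ((congrArg (α.app t.pt) hy).trans (map_zero _)))
      exact ⟨k, f, hα _ ((NatTrans.naturality_apply α (G.map f) y).trans (hf.trans (map_zero _).symm))⟩⟩

lemma preserves_of_cokernel (β : K ⟶ F) (q : F ⟶ T) (hq : ∀ X, Function.Surjective (q.app X))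
    (hex : ∀ X, Function.Exact (β.app X) (q.app X)) [PreservesColimitsOfShape J K] [PreservesColimitsOfShape J F] :
    PreservesColimitsOfShape J T where
  preservesColimit {G} := ⟨fun {t} ht => by
    obtain ⟨sK, -⟩ := isColimit_jointly (isColimitOfPreserves K ht)
    obtain ⟨sF, kF⟩ := isColimit_jointly (isColimitOfPreserves F ht)
    refine ⟨isColimitOfElements _ (fun x => ?_) fun i y hy => ?_⟩
    · obtain ⟨x', rfl⟩ := hq _ x
      obtain ⟨i, y, rfl⟩ := sF x'
      exact ⟨i, q.app _ y, (NatTrans.naturality_apply q (t.ι.app i) y).symm⟩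
    · obtain ⟨y, rfl⟩ := hq _ y
      obtain ⟨z, hz⟩ := (hex t.pt (F.map (t.ι.app i) y)).1
        ((NatTrans.naturality_apply q (t.ι.app i) y).trans hy)
      obtain ⟨j, z, rfl⟩ := sK z
      let a := G.map (IsFiltered.leftToMax i j)
      let b := G.map (IsFiltered.rightToMax i j)
      obtain ⟨k, f, hf⟩ := kF (IsFiltered.max i j) (F.map a y - β.app _ (K.map b z)) (by
        change F.map (t.ι.app _) _ = 0
        rw [map_sub, ← ConcreteCategory.comp_apply, ← F.map_comp,
          ← NatTrans.naturality_apply β, ← ConcreteCategory.comp_apply (K.map b), ← K.map_comp,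
          t.w, t.w]
        exact sub_eq_zero.2 hz.symm)
      refine ⟨k, IsFiltered.leftToMax i j ≫ f, ?_⟩
      change T.map (G.map _) _ = 0
      have hf' : F.map (G.map f) (F.map a y) = F.map (G.map f) (β.app _ (K.map b z)) :=
        sub_eq_zero.1 ((map_sub (F.map (G.map f)).hom _ _).symm.trans hf)
      rw [← NatTrans.naturality_apply q, G.map_comp, F.map_comp, ConcreteCategory.comp_apply]
      refine (congrArg (q.app (G.obj k)) hf').trans ?_
      rw [← NatTrans.naturality_apply β]
      exact (hex _).apply_apply_eq_zero _⟩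

lemma preserves_homology {ι : Type} {c : ComplexShape ι} (G : C ⥤ HomologicalComplex (ModuleCat.{u} A) c)
    [∀ i, PreservesColimitsOfShape J (G ⋙ HomologicalComplex.eval _ c i)] (p : ι) :
    PreservesColimitsOfShape J (G ⋙ HomologicalComplex.homologyFunctor _ c p) := by
  haveI : PreservesColimitsOfShape J (G ⋙ HomologicalComplex.opcyclesFunctor _ c p) := by
    refine preserves_of_cokernel (K := G ⋙ HomologicalComplex.eval _ c (c.prev p))
      (F := G ⋙ HomologicalComplex.eval _ c p)
      { app := fun X => (G.obj X).d (c.prev p) p, naturality := fun X Y f => (G.map f).comm _ _ }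
      { app := fun X => (G.obj X).pOpcycles p,
        naturality := fun X Y f => (HomologicalComplex.p_opcyclesMap (G.map f) p).symm }
      (fun X => (ModuleCat.epi_iff_surjective ((G.obj X).pOpcycles p)).1 inferInstance) fun X => ?_
    exact LinearMap.exact_iff.2 (ShortComplex.exact_of_g_is_cokernel
      (ShortComplex.mk ((G.obj X).d (c.prev p) p) ((G.obj X).pOpcycles p) ((G.obj X).d_pOpcycles _ p))
      ((G.obj X).opcyclesIsCokernel _ p rfl)).moduleCat_range_eq_ker.symm
  refine preserves_of_kernel (K := G ⋙ HomologicalComplex.opcyclesFunctor _ c p)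
    (F := G ⋙ HomologicalComplex.eval _ c (c.next p))
    { app := fun X => (G.obj X).homologyι p,
      naturality := fun X Y f => HomologicalComplex.homologyι_naturality (G.map f) p }
    { app := fun X => (G.obj X).fromOpcycles p (c.next p),
      naturality := fun X Y f => (cancel_epi ((G.obj X).pOpcycles p)).1 (by
        change (G.obj X).pOpcycles p ≫ HomologicalComplex.opcyclesMap (G.map f) p ≫ _ = _
        rw [HomologicalComplex.p_opcyclesMap_assoc, HomologicalComplex.p_fromOpcycles, HomologicalComplex.p_fromOpcycles_assoc]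
        exact (G.map f).comm p (c.next p)) }
    (fun X => (ModuleCat.mono_iff_injective ((G.obj X).homologyι p)).1 inferInstance) fun X => ?_
  exact LinearMap.exact_iff.2 (ShortComplex.exact_of_f_is_kernel
    (ShortComplex.mk ((G.obj X).homologyι p) ((G.obj X).fromOpcycles p (c.next p))
      ((G.obj X).homologyι_comp_fromOpcycles _ _))
    ((G.obj X).homologyIsKernel p _ rfl)).moduleCat_range_eq_ker.symm

end Groth.Agent.TorB16
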